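import Groth.Agent.L13.FppfLocal.NisRefine

/-! The refinement of an fppf cover by an étale map followed by a finite flat cover of finite presentation. -/

set_option autoImplicit false
set_option linter.style.haveILetI false
universe u

open CategoryTheory AlgebraicGeometry TensorProduct
open Groth.Agent.L13.FppfLocal (exists_etale_finiteFlat isIso_residueFieldMap_spec)

namespace Groth.L24.Dominate

theorem exists_refinement_at {X W : Scheme.{u}} (w : W ⟶ X) [Flat w] [LocallyOfFinitePresentation w] (a : W) :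
    ∃ (U V : Scheme.{u}) (u : U ⟶ X) (v : V ⟶ U) (y : U) (r : V ⟶ W),
      Etale u ∧ u y = w a ∧ IsIso (u.residueFieldMap y) ∧
      (IsFinite v ∧ Flat v ∧ LocallyOfFinitePresentation v ∧ Surjective v) ∧ r ≫ w = v ≫ u := by
  obtain ⟨W₀, hW₀, hxW₀, -⟩ := exists_isAffineOpen_mem_and_subset (x := w a) (U := (⊤ : X.Opens)) trivial
  obtain ⟨D, hD, haD, hDle⟩ := exists_isAffineOpen_mem_and_subset (x := a) (U := w ⁻¹ᵁ W₀) hxW₀
  let φ : Γ(X, W₀) ⟶ Γ(W, D) := w.appLE W₀ D hDle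
  letI := φ.hom.toAlgebra
  haveI : Module.Flat Γ(X, W₀) Γ(W, D) := w.flat_appLE hW₀ hD hDle
  haveI : Algebra.FinitePresentation Γ(X, W₀) Γ(W, D) := w.finitePresentation_appLE hW₀ hD hDle
  obtain ⟨p, hp⟩ : w a ∈ Set.range hW₀.fromSpec := by rw [hW₀.range_fromSpec]; exact hxW₀
  obtain ⟨q, hq⟩ : a ∈ Set.range hD.fromSpec := by rw [hD.range_fromSpec]; exact haD
  have hqp : PrimeSpectrum.comap φ.hom q = p := by
    apply hW₀.fromSpec.isOpenEmbedding.injective
    rw [hp, ← hq, ← Scheme.Hom.comp_apply, ← IsAffineOpen.SpecMap_appLE_fromSpec w hW₀ hD hDle]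
    rfl
  haveI : Nontrivial (p.asIdeal.Fiber Γ(W, D)) :=
    (PrimeSpectrum.preimageEquivFiber Γ(X, W₀) Γ(W, D) p ⟨q, hqp⟩).nontrivial
  obtain ⟨S, _, _, _, _, _, ⟨ψ⟩, hS⟩ := L02.CAlg.QFSlice.exists_local (R := Γ(X, W₀)) (S := Γ(W, D)) p.asIdeal
  obtain ⟨R', _, _, _, P, _, _, B, _, _, σ, hσ, _, _, _, hPB, hres⟩ := exists_etale_finiteFlat p.asIdeal hS
  let ρ : CommRingCat.of R' ⟶ CommRingCat.of B := CommRingCat.ofHom (algebraMap R' B)
  let η : Γ(X, W₀) ⟶ CommRingCat.of R' := CommRingCat.ofHom (algebraMap Γ(X, W₀) R')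
  haveI : Etale (Spec.map η) := (HasRingHomProperty.Spec_iff (P := @Etale)).2
    (RingHom.etale_algebraMap.2 inferInstance)
  haveI : IsFinite (Spec.map ρ) := (IsFinite.SpecMap_iff _).2 (RingHom.finite_algebraMap.2 inferInstance)
  haveI : Flat (Spec.map ρ) := (HasRingHomProperty.Spec_iff (P := @Flat)).2
    (RingHom.flat_algebraMap_iff.2 inferInstance)
  haveI : LocallyOfFinitePresentation (Spec.map ρ) := (HasRingHomProperty.Spec_iff (P := @LocallyOfFinitePresentation)).2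
    (RingHom.finitePresentation_algebraMap.2 inferInstance)
  let O : (Spec (CommRingCat.of R')).Opens := ⟨Set.range (PrimeSpectrum.comap (algebraMap R' B)),
    (PrimeSpectrum.isOpenMap_comap_of_hasGoingDown_of_finitePresentation (R := R') (S := B)).isOpen_range⟩
  let y : O := ⟨⟨P, inferInstance⟩, hPB⟩
  refine ⟨O, _, O.ι ≫ Spec.map η ≫ hW₀.fromSpec, Spec.map ρ ∣_ O, y,
    (Spec.map ρ ⁻¹ᵁ O).ι ≫ Spec.map (CommRingCat.ofHom (σ.comp ψ.toRingHom)) ≫ hD.fromSpec,
    inferInstance, ?_, ?_, ⟨inferInstance, inferInstance, IsZariskiLocalAtTarget.restrict (P := @LocallyOfFinitePresentation) inferInstance O, ⟨?_⟩⟩, ?_⟩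
  · show hW₀.fromSpec ((Spec.map η) ⟨P, inferInstance⟩) = w a
    rw [← hp]
    congr 1
    exact PrimeSpectrum.ext (P.over_def p.asIdeal).symm
  · rw [Scheme.residueFieldMap_comp, Scheme.residueFieldMap_comp]
    haveI h2 : IsIso ((Spec.map η).residueFieldMap (O.ι y)) := isIso_residueFieldMap_spec p.asIdeal P hres
    haveI : IsIso (O.ι.residueFieldMap y) := inferInstance
    haveI := hW₀.isOpenImmersion_fromSpec
    have h1 : IsIso (hW₀.fromSpec.residueFieldMap ((Spec.map η) (O.ι y))) := inferInstance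
    exact @IsIso.comp_isIso _ _ _ _ _ _ _ (@IsIso.comp_isIso _ _ _ _ _ _ _ h1 h2) inferInstance
  · rintro ⟨z, ⟨b, rfl⟩⟩
    exact ⟨⟨b, ⟨b, rfl⟩⟩, Subtype.ext (by simp; rfl)⟩
  · rw [morphismRestrict_ι_assoc, Category.assoc, Category.assoc,
      ← IsAffineOpen.SpecMap_appLE_fromSpec w hW₀ hD hDle, ← Spec.map_comp_assoc, ← Spec.map_comp_assoc]
    congr 3
    ext r
    show σ (ψ (algebraMap Γ(X, W₀) Γ(W, D) r)) = algebraMap R' B (algebraMap Γ(X, W₀) R' r)
    rw [ψ.commutes]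
    exact RingHom.congr_fun hσ r

end Groth.L24.Dominate
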