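import Groth.Agent.L24.Dominate.Split
import Mathlib.AlgebraicGeometry.Morphisms.Etale
import Mathlib.AlgebraicGeometry.Morphisms.Finite
import Mathlib.AlgebraicGeometry.Morphisms.Flat
import Mathlib.AlgebraicGeometry.Morphisms.FinitePresentation
import Mathlib.RingTheory.Flat.Basic
import Mathlib.RingTheory.Finiteness.ModuleFinitePresentation
import Mathlib.RingTheory.Spectrum.Prime.RingHom

/-!
An étale neighbourhood is dominated, Zariski locally, by a finite locally free cover.
-/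

set_option autoImplicit false
set_option linter.style.haveILetI false
set_option backward.isDefEq.respectTransparency.types false
universe u

open CategoryTheory AlgebraicGeometry

namespace Groth.L24.Dominate

theorem exists_finLocFree_dominating {U S : Scheme.{u}} (e : U ⟶ S) [Etale e] (u : U) :
    ∃ (V : S.Opens) (T : Scheme.{u}) (π : T ⟶ (V : Scheme.{u})), e u ∈ V ∧ IsAffineOpen V ∧ Surjective π ∧
      IsFinite π ∧ Flat π ∧ LocallyOfFinitePresentation π ∧
      ∀ t : T, V.ι (π t) = e u →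
        ∃ (W : T.Opens) (h : (W : Scheme.{u}) ⟶ U), t ∈ W ∧ h ≫ e = W.ι ≫ π ≫ V.ι ∧ ∀ ht : t ∈ W, h ⟨t, ht⟩ = u := by
  obtain ⟨_, ⟨(V : S.Opens), (hV : IsAffineOpen V), rfl⟩, (hsV : e u ∈ V), -⟩ :=
    S.isBasis_affineOpens.exists_subset_of_mem_open (Set.mem_univ (e u)) isOpen_univ
  obtain ⟨_, ⟨(U₀ : U.Opens), (hU : IsAffineOpen U₀), rfl⟩, (huU : u ∈ U₀), hle⟩ :=
    U.isBasis_affineOpens.exists_subset_of_mem_open (u := ((e ⁻¹ᵁ V : U.Opens) : Set U)) (a := u) hsV (e ⁻¹ᵁ V).isOpen
  have hUV : U₀ ≤ e ⁻¹ᵁ V := fun y hy => hle hy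
  let A := Γ(S, V)
  let B := Γ(U, U₀)
  letI : Algebra A B := (e.appLE V U₀ hUV).hom.toAlgebra
  haveI : Algebra.Etale A B := RingHom.etale_algebraMap.mp
    (HasRingHomProperty.appLE (P := @Etale) e inferInstance ⟨V, hV⟩ ⟨U₀, hU⟩ hUV)
  let Q := hU.primeIdealOf ⟨u, huU⟩
  have hQ : hU.fromSpec Q = u := hU.fromSpec_primeIdealOf ⟨u, huU⟩
  obtain ⟨T, _, _, hfin, hfree, hinj, key⟩ := exists_finite_free_dominating A B Q.asIdeal
  haveI : Module.FinitePresentation A T := Module.finitePresentation_of_projective A T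
  haveI : Algebra.FinitePresentation A T := inferInstance
  let π₀ : Spec (CommRingCat.of T) ⟶ Spec A := Spec.map (CommRingCat.ofHom (algebraMap A T))
  haveI : IsFinite π₀ := (IsFinite.SpecMap_iff _).2 (RingHom.finite_algebraMap.2 inferInstance)
  haveI : Flat π₀ := (HasRingHomProperty.Spec_iff (P := @Flat)).2 (RingHom.flat_algebraMap_iff.2 inferInstance)
  haveI : LocallyOfFinitePresentation π₀ := (HasRingHomProperty.Spec_iff (P := @LocallyOfFinitePresentation)).2
    (RingHom.finitePresentation_algebraMap.2 inferInstance)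
  haveI : Surjective π₀ := ⟨fun x => by
    obtain ⟨y, hy⟩ := (RingHom.IsIntegral.comap_surjective (f := algebraMap A T)
      (algebraMap_isIntegral_iff.mpr inferInstance) hinj) x
    exact ⟨y, hy⟩⟩
  let π : Spec (CommRingCat.of T) ⟶ (V : Scheme.{u}) := π₀ ≫ hV.isoSpec.inv
  have hπι : π ≫ V.ι = π₀ ≫ hV.fromSpec := Category.assoc _ _ _
  refine ⟨V, _, π, hsV, hV, inferInstanceAs (Surjective (_ ≫ _)), inferInstanceAs (IsFinite (_ ≫ _)),
    inferInstanceAs (Flat (_ ≫ _)), inferInstanceAs (LocallyOfFinitePresentation (_ ≫ _)), fun P hP => ?_⟩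
  have hP' : π₀ P = Spec.map (e.appLE V U₀ hUV) Q := by
    apply hV.fromSpec.isOpenEmbedding.injective
    have h1 : hV.fromSpec (π₀ P) = e u := hP
    have h2 : hV.fromSpec (Spec.map (e.appLE V U₀ hUV) Q) = e u := by
      rw [← Scheme.Hom.comp_apply, IsAffineOpen.SpecMap_appLE_fromSpec e hV hU hUV, Scheme.Hom.comp_apply, hQ]
    exact h1.trans h2.symm
  haveI : P.asIdeal.IsPrime := P.isPrime
  obtain ⟨t, ht, φ, hφ⟩ := key P.asIdeal (congrArg PrimeSpectrum.asIdeal hP')
  let M := Localization.Away t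
  let j : Spec (CommRingCat.of M) ⟶ Spec (CommRingCat.of T) := Spec.map (CommRingCat.ofHom (algebraMap T M))
  haveI : IsOpenImmersion j := IsOpenImmersion.of_isLocalization t
  have hdP : Disjoint (Submonoid.powers t : Set T) (P.asIdeal : Set T) := by
    rw [Set.disjoint_left]
    rintro _ ⟨n, rfl⟩ h
    exact ht (P.isPrime.mem_of_pow_mem n h)
  haveI : (P.asIdeal.map (algebraMap T M)).IsPrime :=
    IsLocalization.isPrime_of_isPrime_disjoint (Submonoid.powers t) M _ inferInstance hdP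
  let z : Spec (CommRingCat.of M) := ⟨P.asIdeal.map (algebraMap T M), inferInstance⟩
  have hz : j z = P := PrimeSpectrum.ext
    (IsLocalization.comap_map_of_isPrime_disjoint (Submonoid.powers t) M inferInstance hdP)
  let h₀ : Spec (CommRingCat.of M) ⟶ U := Spec.map (CommRingCat.ofHom φ.toRingHom) ≫ hU.fromSpec
  have hh₀ : h₀ ≫ e = j ≫ π ≫ V.ι := by
    rw [hπι, show h₀ ≫ e = Spec.map (CommRingCat.ofHom φ.toRingHom) ≫ hU.fromSpec ≫ e from Category.assoc _ _ _,
      ← IsAffineOpen.SpecMap_appLE_fromSpec e hV hU hUV, ← Spec.map_comp_assoc, ← Spec.map_comp_assoc]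
    congr 2
    ext a
    exact (φ.commutes a).trans (IsScalarTower.algebraMap_apply A T M a)
  refine ⟨j.opensRange, j.isoOpensRange.inv ≫ h₀, ⟨z, hz⟩, ?_, fun hPW => ?_⟩
  · rw [Category.assoc, hh₀, ← Category.assoc, j.isoOpensRange_inv_comp]
  · rw [Scheme.Hom.comp_apply]
    have h1 : j.isoOpensRange.inv ⟨P, hPW⟩ = z := by
      apply j.isOpenEmbedding.injective
      rw [← Scheme.Hom.comp_apply, j.isoOpensRange_inv_comp, hz]
      rfl
    rw [h1]
    show hU.fromSpec (Spec.map (CommRingCat.ofHom φ.toRingHom) z) = u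
    rw [show Spec.map (CommRingCat.ofHom φ.toRingHom) z = Q from PrimeSpectrum.ext hφ, hQ]

end Groth.L24.Dominate
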