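import Mathlib.RingTheory.AdjoinRoot
import Mathlib.RingTheory.Unramified.LocalStructure
import Mathlib.RingTheory.Etale.StandardEtale
import Mathlib.RingTheory.LocalRing.ResidueField.Ideal
import Mathlib.LinearAlgebra.FreeModule.Basic
import Mathlib.Algebra.Polynomial.Splits

/-!
An étale neighbourhood is dominated, Zariski locally upstairs, by a finite free cover of the base.
-/

set_option autoImplicit false
set_option linter.style.haveILetI false
universe u

open Polynomial

namespace Groth.L24.Dominate

/-- A monic polynomial splits over a finite free extension. -/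
theorem exists_splitting (n : ℕ) : ∀ (A : Type u) [CommRing A] (f : A[X]), f.Monic → f.natDegree = n →
    ∃ (T : Type u) (_ : CommRing T) (_ : Algebra A T), Module.Finite A T ∧ Module.Free A T ∧
      Function.Injective (algebraMap A T) ∧
      ∃ s : Multiset T, f.map (algebraMap A T) = (s.map fun b => X - C b).prod := by
  induction n with
  | zero =>
    intro A _ f hf hn
    exact ⟨A, inferInstance, Algebra.id A, inferInstance, inferInstance, Function.injective_id, 0,
      by simp [hf.natDegree_eq_zero.mp hn]⟩
  | succ n ih =>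
    intro A _ f hf hn
    rcases subsingleton_or_nontrivial A with hA | hA
    · exact ⟨A, inferInstance, Algebra.id A, inferInstance, inferInstance, Function.injective_id, 0, Subsingleton.elim _ _⟩
    let A₁ := AdjoinRoot f
    haveI := hf.free_adjoinRoot
    haveI := hf.finite_adjoinRoot
    haveI : Nontrivial A₁ := by
      let pb := AdjoinRoot.powerBasis' hf
      haveI : Nonempty (Fin pb.dim) := ⟨⟨0, by show 0 < f.natDegree; omega⟩⟩
      exact pb.basis.repr.toEquiv.nontrivial
    let f' := f.map (algebraMap A A₁)
    let g := f' /ₘ (X - C (AdjoinRoot.root f))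
    have hroot : f'.IsRoot (AdjoinRoot.root f) := by
      show (f.map (AdjoinRoot.of f)).IsRoot _
      exact AdjoinRoot.isRoot_root f
    have hmul : (X - C (AdjoinRoot.root f)) * g = f' := mul_divByMonic_eq_iff_isRoot.mpr hroot
    have hg : g.Monic := (monic_X_sub_C _).of_mul_monic_left (by rw [hmul]; exact hf.map _)
    have hgn : g.natDegree = n := by
      rw [natDegree_divByMonic _ (monic_X_sub_C _), natDegree_X_sub_C, hf.natDegree_map, hn]
      omega
    obtain ⟨T, _, _, hfin, hfree, hinj, s, hs⟩ := ih A₁ g hg hgn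
    letI : Algebra A T := ((algebraMap A₁ T).comp (algebraMap A A₁)).toAlgebra
    haveI : IsScalarTower A A₁ T := IsScalarTower.of_algebraMap_eq fun _ => rfl
    refine ⟨T, inferInstance, inferInstance, Module.Finite.trans A₁ T, Module.Free.trans (R := A) (S := A₁) (M := T), ?_,
      (algebraMap A₁ T (AdjoinRoot.root f)) ::ₘ s, ?_⟩
    · exact hinj.comp (FaithfulSMul.algebraMap_injective A A₁)
    · rw [IsScalarTower.algebraMap_eq A A₁ T, ← Polynomial.map_map, ← show (X - C (AdjoinRoot.root f)) * g = f.map (algebraMap A A₁) from hmul,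
        Polynomial.map_mul, hs, Multiset.map_cons, Multiset.prod_cons, Polynomial.map_sub, map_X, map_C]

/-- Two primes of a standard étale algebra with the same preimage in the polynomial ring are equal. -/
theorem prime_eq_of_aeval {A S : Type u} [CommRing A] [CommRing S] [Algebra A S]
    (P : StandardEtalePresentation A S) (q q' : Ideal S) [q.IsPrime] [q'.IsPrime]
    (h : q.comap (aeval (R := A) P.x) = q'.comap (aeval (R := A) P.x)) : q = q' := by
  have key : ∀ (q q' : Ideal S) [q.IsPrime] [q'.IsPrime],
      q.comap (aeval (R := A) P.x) = q'.comap (aeval (R := A) P.x) → q ≤ q' := by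
    intro q q' _ _ h x hx
    obtain ⟨p, n, hp⟩ := P.exists_mul_aeval_x_g_pow_eq_aeval_x x
    have h1 : p ∈ q.comap (aeval (R := A) P.x) := by
      rw [Ideal.mem_comap, ← hp]; exact q.mul_mem_right _ hx
    rw [h, Ideal.mem_comap, ← hp] at h1
    exact (‹q'.IsPrime›.mem_or_mem h1).resolve_right fun hn =>
      ‹q'.IsPrime›.ne_top (Ideal.eq_top_of_isUnit_mem _ hn (P.hasMap.2.pow n))
  exact le_antisymm (key q q' h) (key q' q h.symm)

/-- An étale neighbourhood is dominated, Zariski locally, by a finite free cover. -/
theorem exists_finite_free_dominating (A B : Type u) [CommRing A] [CommRing B] [Algebra A B] [Algebra.Etale A B]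
    (q : Ideal B) [q.IsPrime] :
    ∃ (T : Type u) (_ : CommRing T) (_ : Algebra A T), Module.Finite A T ∧ Module.Free A T ∧
      Function.Injective (algebraMap A T) ∧
      ∀ (P : Ideal T) [P.IsPrime], P.comap (algebraMap A T) = q.comap (algebraMap A B) →
        ∃ (t : T), t ∉ P ∧ ∃ φ : B →ₐ[A] Localization.Away t,
          (P.map (algebraMap T (Localization.Away t))).comap φ = q := by
  classical
  obtain ⟨b, hb, hse⟩ := Algebra.IsEtaleAt.exists_isStandardEtale (R := A) q
  obtain ⟨Q⟩ := hse.nonempty_standardEtalePresentation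
  obtain ⟨T, _, _, hfin, hfree, hinj, s, hs⟩ := exists_splitting Q.f.natDegree A Q.f Q.monic_f rfl
  refine ⟨T, inferInstance, inferInstance, hfin, hfree, hinj, fun P _ hP => ?_⟩
  let L := Localization.Away b
  have hdq : Disjoint (Submonoid.powers b : Set B) (q : Set B) := by
    rw [Set.disjoint_left]
    rintro _ ⟨n, rfl⟩ h
    exact hb (‹q.IsPrime›.mem_of_pow_mem n h)
  let qL : Ideal L := q.map (algebraMap B L)
  haveI : qL.IsPrime := IsLocalization.isPrime_of_isPrime_disjoint (Submonoid.powers b) L q inferInstance hdq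
  have hqL : qL.comap (algebraMap B L) = q := IsLocalization.comap_map_of_isPrime_disjoint (Submonoid.powers b) L inferInstance hdq
  let p : Ideal A := q.comap (algebraMap A B)
  have hpL : qL.comap (algebraMap A L) = p := by
    rw [IsScalarTower.algebraMap_eq A B L, ← Ideal.comap_comap, hqL]
  let k := p.ResidueField
  let K := P.ResidueField
  let Kq := qL.ResidueField
  letI : Algebra k K := (Ideal.ResidueField.map p P (algebraMap A T) hP.symm).toAlgebra
  letI : Algebra k Kq := (Ideal.ResidueField.map p qL (algebraMap A L) hpL.symm).toAlgebra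
  have hK : ∀ a, algebraMap k K (algebraMap A k a) = algebraMap A K a := fun a => by
    rw [IsScalarTower.algebraMap_apply A T K]
    exact Ideal.ResidueField.map_algebraMap p P _ hP.symm a
  have hKq : ∀ a, algebraMap k Kq (algebraMap A k a) = algebraMap A Kq a := fun a => by
    rw [IsScalarTower.algebraMap_apply A L Kq]
    exact Ideal.ResidueField.map_algebraMap p qL _ hpL.symm a
  haveI : IsScalarTower A k K := IsScalarTower.of_algebraMap_eq fun a => (hK a).symm
  haveI : IsScalarTower A k Kq := IsScalarTower.of_algebraMap_eq fun a => (hKq a).symm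
  let u : Kq := algebraMap L Kq Q.x
  let fk : k[X] := Q.f.map (algebraMap A k)
  have hfk : fk.Monic := Q.monic_f.map _
  have hu : aeval u fk = 0 := by
    rw [aeval_map_algebraMap, aeval_algebraMap_apply, Q.hasMap.1, map_zero]
  let h : k[X] := minpoly k u
  have hint : IsIntegral k u := ⟨fk, hfk, hu⟩
  have hdvd : h ∣ fk := minpoly.dvd k u hu
  have hsplit : (fk.map (algebraMap k K)).Splits := by
    rw [Polynomial.map_map, ← IsScalarTower.algebraMap_eq, IsScalarTower.algebraMap_eq A T K, ← Polynomial.map_map, hs,
      Polynomial.map_multiset_prod, Multiset.map_map]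
    refine Splits.multisetProd ?_
    simp only [Multiset.mem_map, Function.comp_apply]
    rintro _ ⟨a, -, rfl⟩
    rw [Polynomial.map_sub, map_X, map_C]
    exact Splits.X_sub_C _
  have hhdeg : (h.map (algebraMap k K)).degree ≠ 0 := by
    rw [degree_map]
    exact (minpoly.degree_pos hint).ne'
  obtain ⟨α, hα⟩ := (hsplit.of_dvd (hfk.map _).ne_zero (Polynomial.map_dvd _ hdvd)).exists_eval_eq_zero hhdeg
  obtain ⟨a, has, hαa⟩ : ∃ a ∈ s, algebraMap T K a = α := by
    have h1 : (fk.map (algebraMap k K)).eval α = 0 := by
      obtain ⟨r, hr⟩ := Polynomial.map_dvd (algebraMap k K) hdvd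
      rw [hr, eval_mul, hα, zero_mul]
    rw [Polynomial.map_map, ← IsScalarTower.algebraMap_eq, IsScalarTower.algebraMap_eq A T K, ← Polynomial.map_map, hs,
      Polynomial.map_multiset_prod, eval_multiset_prod, Multiset.map_map, Multiset.map_map, Multiset.prod_eq_zero_iff] at h1
    simp only [Multiset.mem_map, Function.comp_apply, Polynomial.map_sub, map_X, map_C, eval_sub, eval_X, eval_C,
      sub_eq_zero] at h1
    obtain ⟨a, ha, ha'⟩ := h1
    exact ⟨a, ha, ha'.symm⟩
  have hker : ∀ F : A[X], aeval u F = 0 ↔ aeval α F = 0 := by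
    intro F
    rw [← aeval_map_algebraMap k u F, ← aeval_map_algebraMap k α F, ← minpoly.dvd_iff,
      ← minpoly.dvd_iff, show minpoly k α = h from (minpoly.eq_of_irreducible_of_monic (minpoly.irreducible hint)
        (by rw [aeval_def, ← eval_map]; exact hα) (minpoly.monic hint)).symm]
  let t : T := aeval a Q.g
  have hgu : aeval u Q.g ≠ 0 := by
    rw [aeval_algebraMap_apply]
    exact (Q.hasMap.2.map (algebraMap L Kq)).ne_zero
  have ht : t ∉ P := fun hmem => hgu <| (hker _).mpr <| by
    rw [← hαa, aeval_algebraMap_apply]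
    exact Ideal.algebraMap_residueField_eq_zero.mpr hmem
  let M := Localization.Away t
  have hfa : aeval a Q.f = 0 := by
    rw [aeval_def, ← eval_map, hs, eval_multiset_prod, Multiset.map_map]
    exact Multiset.prod_eq_zero (Multiset.mem_map.mpr ⟨a, has, by simp⟩)
  have hmap : Q.HasMap (algebraMap T M a) := by
    refine ⟨by rw [aeval_algebraMap_apply, hfa, map_zero], ?_⟩
    rw [aeval_algebraMap_apply]
    exact IsLocalization.Away.algebraMap_isUnit t
  let ψ : L →ₐ[A] M := (Q.P.lift (algebraMap T M a) hmap).comp Q.equivRing.toAlgHom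
  have hψx : ψ Q.x = algebraMap T M a := by
    show Q.P.lift _ hmap (Q.equivRing Q.x) = _
    rw [Q.equivRing_x, StandardEtalePair.lift_X]
  have hdP : Disjoint (Submonoid.powers t : Set T) (P : Set T) := by
    rw [Set.disjoint_left]
    rintro _ ⟨n, rfl⟩ h
    exact ht (‹P.IsPrime›.mem_of_pow_mem n h)
  let PM : Ideal M := P.map (algebraMap T M)
  haveI : PM.IsPrime := IsLocalization.isPrime_of_isPrime_disjoint (Submonoid.powers t) M P inferInstance hdP
  have hPM : PM.comap (algebraMap T M) = P := IsLocalization.comap_map_of_isPrime_disjoint (Submonoid.powers t) M inferInstance hdP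
  refine ⟨t, ht, ψ.comp (IsScalarTower.toAlgHom A B L), ?_⟩
  have hq : PM.comap ψ.toRingHom = qL := by
    refine prime_eq_of_aeval Q _ _ (Ideal.ext fun F => ?_)
    rw [Ideal.mem_comap, Ideal.mem_comap, Ideal.mem_comap]
    show ψ (aeval Q.x F) ∈ PM ↔ _
    rw [← aeval_algHom_apply, hψx, aeval_algebraMap_apply, ← Ideal.mem_comap, hPM,
      ← Ideal.algebraMap_residueField_eq_zero (I := P), ← aeval_algebraMap_apply, hαa, ← hker,
      aeval_algebraMap_apply, Ideal.algebraMap_residueField_eq_zero]
  show (PM.comap ψ.toRingHom).comap (algebraMap B L) = q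
  rw [hq, hqL]

end Groth.L24.Dominate
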